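import Cfsg.Agent.Lib.Forms.Orth
import Cfsg.Agent.Lib.Spinor.Tools

/-!
# Odd subgroups normalised by all reflections

A subgroup of odd order of an orthogonal group of dimension at least three over a finite field of odd
characteristic that is normalised by every reflection is trivial.
-/

set_option autoImplicit false
set_option linter.unusedSectionVars false

namespace Cfsg.Agent.OddCoreForms

open Cfsg.Agent Cfsg.Agent.FormsLib

variable {F V : Type*} [Field F] [AddCommGroup V] [Module F V]

/-- A group of odd order. -/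
theorem eq_one_of_sq {G : Type*} [Group G] (N : Subgroup G) (hodd : Odd (Nat.card N)) {h : G} (hh : h ∈ N)
    (h2 : h * h = 1) : h = 1 := by
  obtain ⟨j, hj⟩ := hodd
  have e : h ^ Nat.card N = 1 := congrArg Subtype.val (pow_card_eq_one' (x := (⟨h, hh⟩ : N)))
  rwa [hj, pow_succ, pow_mul, sq, h2, one_pow, one_mul] at e

/-- An element of odd order fixing the square of a vector fixes the vector. -/
theorem fix_of_two {N : Subgroup (V ≃ₗ[F] V)} (hodd : Odd (Nat.card N)) {h : V ≃ₗ[F] V} (hh : h ∈ N) {u : V}
    (hu : h (h u) = u) : h u = u := by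
  obtain ⟨j, hj⟩ := hodd
  have e : h ^ Nat.card N = 1 := congrArg Subtype.val (pow_card_eq_one' (x := (⟨h, hh⟩ : N)))
  have hi : ∀ i : ℕ, (h ^ (2 * i)) u = u := by
    intro i
    induction i with
    | zero => rfl
    | succ i ih =>
      rw [show 2 * (i + 1) = 2 * i + 2 by ring, pow_add, LinearEquiv.mul_apply, sq, LinearEquiv.mul_apply, hu, ih]
  rw [hj, pow_succ'] at e
  have e2 := LinearEquiv.congr_fun e u
  rw [LinearEquiv.mul_apply, hi] at e2
  exact e2

theorem fix_of_neg {N : Subgroup (V ≃ₗ[F] V)} (hodd : Odd (Nat.card N)) {h : V ≃ₗ[F] V} (hh : h ∈ N) {u : V}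
    (hu : h u = -u) : h u = u :=
  fix_of_two hodd hh (by rw [hu, map_neg, hu, neg_neg])

variable [Finite F] [FiniteDimensional F V] {Q : QuadraticForm F V}

/-- The residual of a vector after removing the components along two orthogonal anisotropic vectors. -/
theorem perp_residual (h2 : (2 : F) ≠ 0) {a p : V} (ha : Q a ≠ 0) (hp : Q p ≠ 0)
    (hap : QuadraticMap.polar Q a p = 0) (y : V) :
    ∃ (α β : F) (r : V), y = α • a + β • p + r ∧ QuadraticMap.polar Q r a = 0 ∧ QuadraticMap.polar Q r p = 0 := by
  refine ⟨QuadraticMap.polar Q y a / (2 * Q a), QuadraticMap.polar Q y p / (2 * Q p),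
    y - (QuadraticMap.polar Q y a / (2 * Q a)) • a - (QuadraticMap.polar Q y p / (2 * Q p)) • p, ?_, ?_, ?_⟩
  · abel
  all_goals
    simp only [QuadraticMap.polar_sub_left, QuadraticMap.polar_smul_left, smul_eq_mul, polar_self', hap,
      QuadraticMap.polar_comm Q p a]
    field_simp
    ring

/-- An anisotropic vector orthogonal to two given orthogonal ones. -/
theorem exists_aniso_perp2 (hQ : (QuadraticMap.polarBilin Q).Nondegenerate) (h2 : (2 : F) ≠ 0)
    (hn : 3 ≤ Module.finrank F V) {a p : V} (ha : Q a ≠ 0) (hp : Q p ≠ 0)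
    (hap : QuadraticMap.polar Q a p = 0) :
    ∃ x, Q x ≠ 0 ∧ QuadraticMap.polar Q x a = 0 ∧ QuadraticMap.polar Q x p = 0 := by
  by_contra hall
  push Not at hall
  let W : Submodule F V := LinearMap.ker ((QuadraticMap.polarBilin Q).flip a) ⊓
    LinearMap.ker ((QuadraticMap.polarBilin Q).flip p)
  have hW : ∀ x ∈ W, Q x = 0 := fun x hx => by
    by_contra hx0
    exact hall x hx0 (Spinor.mem_ker_polar.1 hx.1) (Spinor.mem_ker_polar.1 hx.2)
  have hzero : ∀ x ∈ W, x = 0 := fun x hx => by
    refine hQ.1 x fun y => ?_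
    obtain ⟨α, β, r, rfl, hra, hrp⟩ := perp_residual h2 ha hp hap y
    rw [QuadraticMap.polarBilin_apply_apply, QuadraticMap.polar_add_right, QuadraticMap.polar_add_right,
      QuadraticMap.polar_smul_right, QuadraticMap.polar_smul_right, Spinor.mem_ker_polar.1 hx.1,
      Spinor.mem_ker_polar.1 hx.2, smul_zero, smul_zero, zero_add, zero_add]
    exact Spinor.polar_of_singular hW hx ⟨Spinor.mem_ker_polar.2 hra, Spinor.mem_ker_polar.2 hrp⟩
  have hle : (⊤ : Submodule F V) ≤ Submodule.span F {a, p} := fun y _ => by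
    obtain ⟨α, β, r, rfl, hra, hrp⟩ := perp_residual h2 ha hp hap y
    rw [hzero r ⟨Spinor.mem_ker_polar.2 hra, Spinor.mem_ker_polar.2 hrp⟩, add_zero]
    exact Submodule.mem_span_pair.2 ⟨α, β, rfl⟩
  have h1 := Submodule.finrank_mono hle
  rw [finrank_top] at h1
  classical
  have h3 : Module.finrank F (Submodule.span F ({a, p} : Set V)) ≤ 2 := by
    refine (finrank_span_le_card _).trans ?_
    rw [Set.toFinset_insert, Set.toFinset_singleton]
    exact Finset.card_le_two
  omega

/-- An anisotropic vector orthogonal to a given one. -/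
theorem exists_aniso_perp1 (hQ : (QuadraticMap.polarBilin Q).Nondegenerate) (h2 : (2 : F) ≠ 0)
    (hn : 3 ≤ Module.finrank F V) {a : V} (ha : Q a ≠ 0) :
    ∃ x, Q x ≠ 0 ∧ QuadraticMap.polar Q x a = 0 := by
  by_contra hall
  push Not at hall
  let W : Submodule F V := LinearMap.ker ((QuadraticMap.polarBilin Q).flip a)
  have hW : ∀ x ∈ W, Q x = 0 := fun x hx => by
    by_contra hx0
    exact hall x hx0 (Spinor.mem_ker_polar.1 hx)
  have hsplit : ∀ y, y - (QuadraticMap.polar Q y a / (2 * Q a)) • a ∈ W := fun y => by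
    refine Spinor.mem_ker_polar.2 ?_
    rw [QuadraticMap.polar_sub_left, QuadraticMap.polar_smul_left, polar_self', smul_eq_mul]
    field_simp
    ring
  have hzero : ∀ x ∈ W, x = 0 := fun x hx => by
    refine hQ.1 x fun y => ?_
    rw [QuadraticMap.polarBilin_apply_apply,
      ← sub_add_cancel y ((QuadraticMap.polar Q y a / (2 * Q a)) • a), QuadraticMap.polar_add_right,
      QuadraticMap.polar_smul_right, Spinor.mem_ker_polar.1 hx, smul_zero, add_zero]
    exact Spinor.polar_of_singular hW hx (hsplit y)
  have hle : (⊤ : Submodule F V) ≤ Submodule.span F {a} := fun y _ => by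
    have := hzero _ (hsplit y)
    rw [sub_eq_zero] at this
    exact Submodule.mem_span_singleton.2 ⟨_, this.symm⟩
  have h1 := Submodule.finrank_mono hle
  rw [finrank_top, finrank_span_singleton (fun e => ha (by rw [e, QuadraticMap.map_zero]))] at h1
  omega

theorem quad_comb {a p : V} (α β : F) :
    Q (α • a + β • p) = α * α * Q a + β * β * Q p + α * β * QuadraticMap.polar Q a p := by
  rw [QuadraticMap.map_add Q, QuadraticMap.map_smul, QuadraticMap.map_smul, QuadraticMap.polar_smul_left,
    QuadraticMap.polar_smul_right]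
  simp only [smul_eq_mul]; ring

/-- In dimension three an element with an anisotropic fixed vector is trivial. -/
theorem rot_trivial (hQ : (QuadraticMap.polarBilin Q).Nondegenerate) (h2 : (2 : F) ≠ 0)
    (hn : Module.finrank F V = 3) (N : Subgroup (V ≃ₗ[F] V)) (hiso : N ≤ oGroup Q)
    (hodd : Odd (Nat.card N))
    (hnorm : ∀ (v : V) (hv : Q v ≠ 0), ∀ h ∈ N, refl Q v hv * h * refl Q v hv ∈ N)
    {h : V ≃ₗ[F] V} (hh : h ∈ N) {a : V} (ha : Q a ≠ 0) (hfix : h a = a) : h = 1 := by
  classical
  haveI : Fintype F := Fintype.ofFinite F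
  obtain ⟨p1, hp1, h1a⟩ := exists_aniso_perp1 hQ h2 (by omega) ha
  obtain ⟨p2, hp2, h2a, h21⟩ := exists_aniso_perp2 hQ h2 (by omega) ha hp1 (by rw [QuadraticMap.polar_comm]; exact h1a)
  have h12 : QuadraticMap.polar Q p1 p2 = 0 := by rw [QuadraticMap.polar_comm]; exact h21
  have ha1 : QuadraticMap.polar Q a p1 = 0 := by rw [QuadraticMap.polar_comm]; exact h1a
  have ha2 : QuadraticMap.polar Q a p2 = 0 := by rw [QuadraticMap.polar_comm]; exact h2a
  have hLI : LinearIndependent F ![a, p1, p2] := by
    rw [Fintype.linearIndependent_iff]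
    intro f hf
    simp [Fin.sum_univ_three] at hf
    have e0 := congrArg (fun z => QuadraticMap.polar Q z a) hf
    have e1 := congrArg (fun z => QuadraticMap.polar Q z p1) hf
    have e2 := congrArg (fun z => QuadraticMap.polar Q z p2) hf
    simp [QuadraticMap.polar_add_left, QuadraticMap.polar_smul_left, QuadraticMap.polar_zero_left, polar_self',
      h1a, h2a, h21, h12, ha1, ha2, ha, hp1, hp2, h2] at e0 e1 e2
    intro i; fin_cases i <;> assumption
  have hspan := hLI.span_eq_top_of_card_eq_finrank (by rw [Fintype.card_fin, hn])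
  have hex : ∀ y, ∃ α β γ : F, y = α • a + β • p1 + γ • p2 := fun y => by
    have hy : y ∈ Submodule.span F (Set.range ![a, p1, p2]) := by rw [hspan]; trivial
    obtain ⟨f, rfl⟩ := (Submodule.mem_span_range_iff_exists_fun F).1 hy
    exact ⟨f 0, f 1, f 2, by simp [Fin.sum_univ_three]⟩
  have himg : ∀ y, QuadraticMap.polar Q y a = 0 → ∃ β γ : F, h y = β • p1 + γ • p2 := fun y hy => by
    obtain ⟨α, β, γ, e⟩ := hex (h y)
    have h0 : QuadraticMap.polar Q (h y) a = 0 := by
      conv_lhs => rw [← hfix]
      rw [polar_of_mem (hiso hh), hy]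
    rw [e, QuadraticMap.polar_add_left, QuadraticMap.polar_add_left, QuadraticMap.polar_smul_left,
      QuadraticMap.polar_smul_left, QuadraticMap.polar_smul_left, polar_self', h1a, h2a] at h0
    simp [ha, h2] at h0
    exact ⟨β, γ, by rw [e, h0, zero_smul, zero_add]⟩
  obtain ⟨c, s, hc⟩ := himg p1 h1a
  obtain ⟨c', s', hc'⟩ := himg p2 h2a
  have q1 : c * c * Q p1 + s * s * Q p2 = Q p1 := by
    have := hiso hh p1
    rwa [hc, quad_comb, h12, mul_zero, add_zero] at this
  have q2 : c' * c' * Q p1 + s' * s' * Q p2 = Q p2 := by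
    have := hiso hh p2
    rwa [hc', quad_comb, h12, mul_zero, add_zero] at this
  have q3 : c * c' * Q p1 + s * s' * Q p2 = 0 := by
    have := polar_of_mem (hiso hh) p1 p2
    rw [hc, hc', h12] at this
    simp [QuadraticMap.polar_add_left, QuadraticMap.polar_add_right, QuadraticMap.polar_smul_left,
      QuadraticMap.polar_smul_right, polar_self', h12, h21] at this
    refine (mul_eq_zero.1 (show (2 : F) * (c * c' * Q p1 + s * s' * Q p2) = 0 by linear_combination this)).resolve_left h2
  have hone : h p1 = p1 → h p2 = p2 → h = 1 := fun e1 e2 => LinearEquiv.ext fun y => by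
    obtain ⟨α, β, γ, rfl⟩ := hex y
    simp [hfix, e1, e2]
  by_cases hs : s = 0
  · subst hs
    have hc2 : c * c = 1 := mul_right_cancel₀ hp1 (by linear_combination q1)
    have hp1' : h p1 = p1 := fix_of_two hodd hh (by
      rw [hc, zero_smul, add_zero, map_smul, hc, zero_smul, add_zero, smul_smul, hc2, one_smul])
    have hc0 : c ≠ 0 := fun e => by rw [e, mul_zero] at hc2; exact zero_ne_one hc2
    have hcz : c' = 0 := by
      have e := q3
      simp [hc0, hp1] at e
      exact e
    subst hcz
    have hs2 : s' * s' = 1 := mul_right_cancel₀ hp2 (by linear_combination q2)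
    exact hone hp1' (fix_of_two hodd hh (by
      rw [hc', zero_smul, zero_add, map_smul, hc', zero_smul, zero_add, smul_smul, hs2, one_smul]))
  exfalso
  -- the rotation form
  have hcs : (s' - c) * (s' + c) = 0 := by
    have e : (c * c' * Q p1) * (c * c' * Q p1) = (s * s' * Q p2) * (s * s' * Q p2) := by
      rw [show c * c' * Q p1 = -(s * s' * Q p2) by linear_combination q3, neg_mul_neg]
    have e' : Q p1 * Q p2 * ((s' - c) * (s' + c)) = 0 := by
      linear_combination (c * c * Q p1) * q2 - (s' * s' * Q p2) * q1 - e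
    exact (mul_eq_zero.1 e').resolve_left (mul_ne_zero hp1 hp2)
  rcases mul_eq_zero.1 hcs with hsc | hsc
  swap
  · -- a reflection
    have hs' : s' = -c := by linear_combination hsc
    subst hs'
    have hp : h p1 = p1 := fix_of_two hodd hh (by
      rw [hc, map_add, map_smul, map_smul, hc, hc']
      have e1 : c * c + s * c' = 1 := by
        by_cases hc0 : c = 0
        · subst hc0
          refine (mul_self_eq_mul_self_iff.1 (show (s * c') * (s * c') = 1 * 1 from
            mul_right_cancel₀ (mul_ne_zero hp1 hp2) ?_)).elim (fun e => by rw [e]; ring) fun e => ?_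
          · linear_combination (s * s * Q p2) * q2 + (Q p2) * q1
          · exfalso
            have := fix_of_neg (h := h * h) hodd (mul_mem hh hh) (u := p1) (by
              simp only [LinearEquiv.mul_apply, hc, map_add, map_smul, hc', zero_smul, zero_add, neg_zero,
                add_zero, smul_smul]
              match_scalars
              linear_combination e)
            simp only [LinearEquiv.mul_apply, hc, map_add, map_smul, hc', zero_smul, zero_add, neg_zero,
              add_zero, smul_smul, e, neg_one_smul] at this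
            have hp : p1 = 0 := (smul_eq_zero.1 (show (2 : F) • p1 = 0 by
              rw [two_smul]; nth_rw 1 [← this]; rw [neg_add_cancel])).resolve_left h2
            exact hp1 (by rw [hp, QuadraticMap.map_zero])
        · have e2 : c' * Q p1 = s * Q p2 := mul_left_cancel₀ hc0 (by linear_combination q3)
          refine mul_right_cancel₀ hp1 ?_
          linear_combination q1 + s * e2
      match_scalars
      · linear_combination e1
      · ring)
    rw [hc] at hp
    have := congrArg (fun z => QuadraticMap.polar Q z p2) hp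
    simp [QuadraticMap.polar_add_left, QuadraticMap.polar_smul_left, polar_self', h12, h21, hp2, h2, hs] at this
  have hs' : s' = c := by linear_combination hsc
  subst hs'
  have hc'e : c' * Q p1 = -(s * Q p2) := by
    by_cases hc0 : s' = 0
    · subst hc0
      have e2 : (c' * Q p1) * (c' * Q p1) = (s * Q p2) * (s * Q p2) := by
        linear_combination (Q p1) * q2 - (Q p2) * q1
      refine (mul_self_eq_mul_self_iff.1 e2).resolve_left fun e3 => ?_
      have e4 : c' * s = 1 := mul_right_cancel₀ hp1 (by linear_combination q1 + s * e3)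
      have := fix_of_two hodd hh (u := p1) (by
        rw [hc, map_add, map_smul, map_smul, hc']
        simp [smul_smul, mul_comm s c', e4])
      rw [hc, zero_smul, zero_add] at this
      have := congrArg (fun z => QuadraticMap.polar Q z p2) this
      simp [QuadraticMap.polar_smul_left, polar_self', h12, hp2, h2, hs] at this
    · exact mul_left_cancel₀ hc0 (by linear_combination q3)
  have hrot : ∀ x y : F, h (x • p1 + y • p2) = (x * s' + y * c') • p1 + (x * s + y * s') • p2 := fun x y => by
    rw [map_add, map_smul, map_smul, hc, hc']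
    module
  have hd : 1 - s' * s' ≠ 0 := fun e => hs (by
    have : s * s * Q p2 = 0 := by linear_combination q1 + Q p1 * e
    simpa [hp2] using this)
  have hd' : 1 - s' ^ 2 ≠ 0 := by rw [sq]; exact hd
  set K := (1 - 2 * s' * s') / (1 - s' * s') with hK
  set q := if K = 0 then Q p1 else Q a * K with hq
  have hq0 : q ≠ 0 := by
    rw [hq]; split_ifs with hK0
    · exact hp1
    · exact mul_ne_zero ha hK0
  obtain ⟨x, y, hxy⟩ : ∃ x y : F, x * x * Q p1 + y * y * Q p2 = q := by
    obtain ⟨x, y, e⟩ := FiniteField.exists_root_sum_quadratic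
      (f := Polynomial.C (Q p1) * Polynomial.X ^ 2 + Polynomial.C 0 * Polynomial.X + Polynomial.C 0)
      (g := Polynomial.C (Q p2) * Polynomial.X ^ 2 + Polynomial.C 0 * Polynomial.X + Polynomial.C (-q))
      (Polynomial.degree_quadratic hp1) (Polynomial.degree_quadratic hp2)
      (FiniteField.odd_card_of_char_ne_two (Spinor.ringChar_ne_two h2))
    simp [sq] at e
    exact ⟨x, y, by linear_combination e⟩
  set u := x • p1 + y • p2 with hu
  have hQu : Q u = q := by rw [hu, quad_comb, h12, mul_zero, add_zero, hxy]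
  have huv : QuadraticMap.polar Q u (h u) = 2 * s' * q := by
    rw [hu, hrot]
    simp [QuadraticMap.polar_add_left, QuadraticMap.polar_add_right, QuadraticMap.polar_smul_left,
      QuadraticMap.polar_smul_right, polar_self', h12, h21]
    linear_combination (2 * x * y) * hc'e + 2 * s' * hxy
  have hua : QuadraticMap.polar Q u a = 0 := by
    simp [hu, QuadraticMap.polar_add_left, QuadraticMap.polar_smul_left, h1a, h2a]
  have hva : QuadraticMap.polar Q (h u) a = 0 := by
    conv_lhs => rw [← hfix]
    rw [polar_of_mem (hiso hh), hua]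
  set v := h u with hv
  have hQv : Q v = q := by rw [hv, hiso hh u, hQu]
  set w := (-s' * (s' / (1 - s' * s'))) • u + (s' / (1 - s' * s')) • v + K • a with hw
  have huw : QuadraticMap.polar Q u w = 0 := by
    simp only [hw, QuadraticMap.polar_add_right, QuadraticMap.polar_smul_right, polar_self', huv, hua, hQu,
      smul_eq_mul]
    ring
  have hvw : QuadraticMap.polar Q v w = 2 * s' * q := by
    simp only [hw, QuadraticMap.polar_add_right, QuadraticMap.polar_smul_right, polar_self',
      QuadraticMap.polar_comm Q v u, huv, hva, hQv, smul_eq_mul]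
    field_simp
    ring
  have hQw : Q w = q := by
    have hKa : K * K * Q a = q * K := by
      by_cases hK0 : K = 0
      · rw [hK0]; ring
      · rw [hq, if_neg hK0]; ring
    rw [hw, QuadraticMap.map_add Q, quad_comb, QuadraticMap.map_smul]
    simp only [QuadraticMap.polar_add_left, QuadraticMap.polar_smul_left, QuadraticMap.polar_smul_right, smul_eq_mul,
      hua, hva, hQu, hQv, huv]
    linear_combination (norm := skip) hKa
    rw [hK]
    field_simp
    ring
  have hQe : Q (u - w) ≠ 0 := by
    rw [sub_eq_add_neg, QuadraticMap.map_add Q, QuadraticMap.map_neg, QuadraticMap.polar_neg_right, hQu, hQw,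
      huw, neg_zero, add_zero, ← two_mul]
    exact mul_ne_zero h2 hq0
  have hu0 : Q u ≠ 0 := by rw [hQu]; exact hq0
  have hv0 : Q v ≠ 0 := by rw [hQv]; exact hq0
  have hw0 : Q w ≠ 0 := by rw [hQw]; exact hq0
  set ru := refl Q u hu0
  set rv := refl Q v hv0
  set rw' := refl Q w hw0
  set re := refl Q (u - w) hQe
  have hn1 : rv * ru ∈ N := by
    have e : rv * ru = h * (ru * h⁻¹ * ru) := by
      rw [show rv = h * ru * h⁻¹ from (refl_conj Q hu0 (hiso hh)).symm]
      group
    rw [e]
    exact mul_mem hh (hnorm u hu0 _ (inv_mem hh))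
  have hre : ∀ z (hz : Q z ≠ 0) z' (hz' : Q z' ≠ 0), re z = z' → re * refl Q z hz * re = refl Q z' hz' := by
    intro z hz z' hz' e
    have e1 := refl_conj Q hz (refl_mem Q hQe)
    rw [refl_inv] at e1
    rw [e1]
    exact refl_congr Q _ _ e
  have hn2 : re * (rv * ru) * re = rv * rw' := by
    rw [show re * (rv * ru) * re = (re * rv * re) * (re * ru * re) by
      rw [mul_assoc (re * rv), ← mul_assoc re (re * ru), ← mul_assoc re re, refl_mul_self, one_mul]
      group]
    rw [hre v hv0 v hv0 (refl_fix Q hQe (by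
        rw [QuadraticMap.polar_sub_right, hvw, QuadraticMap.polar_comm, huv, sub_self])),
      hre u hu0 w hw0 (refl_sub_apply Q (by rw [hQu, hQw]) hQe)]
  have hn3 : ru * rw' ∈ N := by
    have := mul_mem (inv_mem hn1) (hn2 ▸ hnorm _ hQe _ hn1)
    rwa [mul_inv_rev, refl_inv, refl_inv, mul_assoc, ← mul_assoc rv rv, refl_mul_self, one_mul] at this
  have hcomm : ru * rw' = rw' * ru := by
    have := refl_conj Q hw0 (refl_mem Q hu0)
    rw [refl_inv, refl_congr Q _ hw0 (refl_fix Q hu0 (by rw [QuadraticMap.polar_comm]; exact huw))] at this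
    calc ru * rw' = ru * rw' * ru * ru := by rw [mul_assoc _ ru ru, refl_mul_self, mul_one]
      _ = rw' * ru := by rw [this]
  have h1 : ru * rw' = 1 := eq_one_of_sq N hodd hn3 (by
    nth_rw 1 [hcomm]
    rw [mul_assoc, ← mul_assoc ru, refl_mul_self, one_mul, refl_mul_self])
  have h3 : rw' u = ru u := by
    have e : ru = rw' := (refl_inv Q hu0).symm.trans (inv_eq_of_mul_eq_one_right h1)
    rw [← e]
  rw [refl_fix Q hw0 huw, refl_self] at h3
  have : u = 0 := (smul_eq_zero.1 (show (2 : F) • u = 0 by
    rw [two_smul]; nth_rw 1 [h3]; rw [neg_add_cancel])).resolve_left h2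
  exact hu0 (by rw [this, QuadraticMap.map_zero])

/-- An odd subgroup whose elements with an anisotropic fixed vector are trivial. -/
theorem trivial_of_fix (hQ : (QuadraticMap.polarBilin Q).Nondegenerate) (h2 : (2 : F) ≠ 0)
    (hn : 3 ≤ Module.finrank F V) (N : Subgroup (V ≃ₗ[F] V)) (hiso : N ≤ oGroup Q)
    (hodd : Odd (Nat.card N))
    (hnorm : ∀ (v : V) (hv : Q v ≠ 0), ∀ h ∈ N, refl Q v hv * h * refl Q v hv ∈ N)
    (hfix : ∀ h ∈ N, ∀ a, Q a ≠ 0 → h a = a → h = 1) : N = ⊥ := by
  haveI : Finite V := Module.finite_of_finite F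
  haveI : Finite (V ≃ₗ[F] V) := Finite.of_injective (fun g => (g : V → V)) DFunLike.coe_injective
  have hinv : ∀ (v : V) (hv : Q v ≠ 0), ∀ h ∈ N, refl Q v hv * h * refl Q v hv = h⁻¹ := by
    intro v hv
    let φ : N → N := fun h => ⟨(h : V ≃ₗ[F] V)⁻¹ * (refl Q v hv * h * refl Q v hv),
      mul_mem (inv_mem h.2) (hnorm v hv _ h.2)⟩
    have hinj : Function.Injective φ := fun a b e => by
      have e' : (a : V ≃ₗ[F] V)⁻¹ * (refl Q v hv * a * refl Q v hv) =
          (b : V ≃ₗ[F] V)⁻¹ * (refl Q v hv * b * refl Q v hv) := congrArg Subtype.val e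
      have hfx : refl Q v hv * ((b : V ≃ₗ[F] V) * (a : V ≃ₗ[F] V)⁻¹) * refl Q v hv =
          (b : V ≃ₗ[F] V) * (a : V ≃ₗ[F] V)⁻¹ := by
        calc refl Q v hv * ((b : V ≃ₗ[F] V) * (a : V ≃ₗ[F] V)⁻¹) * refl Q v hv
            = (refl Q v hv * b * refl Q v hv) * (refl Q v hv * a * refl Q v hv)⁻¹ := by
              rw [mul_inv_rev, mul_inv_rev, refl_inv]
              simp only [mul_assoc]
              rw [← mul_assoc (refl Q v hv) (refl Q v hv), refl_mul_self, one_mul]
          _ = (b : V ≃ₗ[F] V) * (a : V ≃ₗ[F] V)⁻¹ := by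
              rw [inv_mul_eq_iff_eq_mul] at e'
              rw [e']; group
      have hmem := mul_mem b.2 (inv_mem a.2)
      set g := (b : V ≃ₗ[F] V) * (a : V ≃ₗ[F] V)⁻¹
      have hg : g = 1 := by
        refine hfix _ hmem v hv (fix_of_two hodd hmem ?_)
        have hgv : refl Q v hv (g v) = -g v := by
          have := LinearEquiv.congr_fun hfx v
          rw [LinearEquiv.mul_apply, LinearEquiv.mul_apply, refl_self, map_neg, map_neg] at this
          rw [← neg_eq_iff_eq_neg]
          exact this
        rw [refl_apply] at hgv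
        set t := (Q v)⁻¹ * QuadraticMap.polar Q (g v) v with ht
        have hgs : g v = (t / 2) • v := by
          have h4 : (2 : F) • g v = t • v := by
            rw [two_smul]
            conv_lhs => arg 2; rw [← neg_neg (g v), ← hgv]
            abel
          rw [div_eq_inv_mul, mul_smul, ← h4, inv_smul_smul₀ h2]
        have h5 : (t / 2) * (t / 2) = 1 := by
          have := hiso hmem v
          rw [hgs, QuadraticMap.map_smul, smul_eq_mul] at this
          exact mul_right_cancel₀ hv (this.trans (one_mul _).symm)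
        rw [hgs, map_smul, hgs, smul_smul, h5, one_smul]
      exact Subtype.ext (mul_inv_eq_one.1 hg).symm
    intro h hh
    obtain ⟨⟨k, hk⟩, e⟩ := Finite.injective_iff_surjective.1 hinj ⟨h, hh⟩
    have e' : k⁻¹ * (refl Q v hv * k * refl Q v hv) = h := congrArg Subtype.val e
    rw [← e']
    simp only [mul_inv_rev, inv_inv, refl_inv, mul_assoc, refl_mul_self, mul_one]
  refine (Subgroup.eq_bot_iff_forall _).2 fun h hh => ?_
  have hcomm : ∀ (v w : V) (hv : Q v ≠ 0) (hw : Q w ≠ 0),
      h * (refl Q v hv * refl Q w hw) = (refl Q v hv * refl Q w hw) * h := fun v w hv hw => by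
    have e1 := hinv w hw h hh
    have e2 := hinv v hv _ (inv_mem hh)
    rw [inv_inv, ← e1] at e2
    calc h * (refl Q v hv * refl Q w hw) =
        refl Q v hv * (refl Q w hw * h * refl Q w hw) * refl Q v hv * (refl Q v hv * refl Q w hw) := by rw [e2]
      _ = _ := by
        simp only [mul_assoc]
        rw [← mul_assoc (refl Q v hv) (refl Q v hv), refl_mul_self, one_mul, refl_mul_self, mul_one]
  have hall : ∀ u, Q u ≠ 0 → h u = u := fun u hu => by
    obtain ⟨v, hv, hvu⟩ := exists_aniso_perp1 hQ h2 hn hu
    have huv : QuadraticMap.polar Q u v = 0 := by rw [QuadraticMap.polar_comm]; exact hvu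
    obtain ⟨w, hw, hwu, hwv⟩ := exists_aniso_perp2 hQ h2 hn hu hv huv
    have huw : QuadraticMap.polar Q u w = 0 := by rw [QuadraticMap.polar_comm]; exact hwu
    have key : ∀ z (hz : Q z ≠ 0), QuadraticMap.polar Q u z = 0 →
        refl Q u hu (refl Q z hz (h u)) = -h u := fun z hz huz => by
      have := LinearEquiv.congr_fun (hcomm u z hu hz) u
      rw [LinearEquiv.mul_apply, LinearEquiv.mul_apply, LinearEquiv.mul_apply, refl_fix Q hz huz, refl_self,
        map_neg] at this
      exact this.symm
    have k1 := key v hv huv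
    have k2 := key w hw huw
    set y := h u
    have e1 : ∀ z (hz : Q z ≠ 0), refl Q u hu (refl Q z hz y) = -y → refl Q z hz y = refl Q u hu (-y) :=
      fun z hz e => by
        rw [← e, ← LinearEquiv.mul_apply (refl Q u hu) (refl Q u hu), refl_mul_self, LinearEquiv.coe_one, id_eq]
    have e3 := (e1 v hv k1).trans (e1 w hw k2).symm
    rw [refl_apply, refl_apply, sub_right_inj] at e3
    have e4 := congrArg (fun z => QuadraticMap.polar Q z v) e3
    simp [QuadraticMap.polar_smul_left, polar_self', hwv, hv, h2] at e4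
    rw [refl_apply (x := y), e4, mul_zero, zero_smul, sub_zero, refl_apply] at k1
    have h4 : (2 : F) • y = ((Q u)⁻¹ * QuadraticMap.polar Q y u) • u := by
      rw [two_smul]
      conv_lhs => arg 2; rw [← neg_neg y, ← k1]
      abel
    have hys : y = (2 : F)⁻¹ • ((Q u)⁻¹ * QuadraticMap.polar Q y u) • u := by rw [← h4, inv_smul_smul₀ h2]
    rw [smul_smul] at hys
    set t := (2 : F)⁻¹ * ((Q u)⁻¹ * QuadraticMap.polar Q y u)
    refine fix_of_two hodd hh ?_
    show h y = u
    rw [hys, map_smul, show h u = y from rfl, hys, smul_smul]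
    have h5 : t * t = 1 := by
      have := hiso hh u
      rw [show h u = y from rfl, hys, QuadraticMap.map_smul, smul_eq_mul] at this
      exact mul_right_cancel₀ hu (this.trans (one_mul _).symm)
    rw [h5, one_smul]
  obtain ⟨a, ha⟩ : ∃ a, Q a ≠ 0 := by
    by_contra hall0
    push Not at hall0
    haveI : Nontrivial V := Module.nontrivial_of_finrank_pos (R := F) (by omega)
    obtain ⟨x, hx⟩ := exists_ne (0 : V)
    exact hx (hQ.1 x fun y => Spinor.polar_of_singular (W := ⊤) (fun z _ => hall0 z) trivial trivial)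
  exact hfix h hh a ha (hall a ha)

/-- An odd subgroup normalised by all reflections is trivial. -/
theorem odd_core_orth.{u} {F : Type*} [Field F] [Finite F] (h2 : (2 : F) ≠ 0) (n : ℕ) :
    ∀ {V : Type u} [AddCommGroup V] [Module F V] [FiniteDimensional F V] {Q : QuadraticForm F V},
      (QuadraticMap.polarBilin Q).Nondegenerate → Module.finrank F V = n → 3 ≤ n →
      ∀ N : Subgroup (V ≃ₗ[F] V), N ≤ oGroup Q → Odd (Nat.card N) →
      (∀ (v : V) (hv : Q v ≠ 0), ∀ h ∈ N, refl Q v hv * h * refl Q v hv ∈ N) → N = ⊥ := by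
  induction n using Nat.strong_induction_on with
  | _ n ih => ?_
  intro V _ _ _ Q hQ hV hn N hiso hodd hnorm
  refine trivial_of_fix hQ h2 (by omega) N hiso hodd hnorm fun h hh a ha hha => ?_
  rcases eq_or_lt_of_le hn with e | hlt
  · exact rot_trivial hQ h2 (hV.trans e.symm) N hiso hodd hnorm hh ha hha
  let W : Submodule F V := LinearMap.ker ((QuadraticMap.polarBilin Q).flip a)
  let C : Subgroup (V ≃ₗ[F] V) :=
    { carrier := {g | g ∈ N ∧ g a = a}
      one_mem' := ⟨one_mem _, rfl⟩
      mul_mem' := fun {g g'} hg hg' => ⟨mul_mem hg.1 hg'.1, by rw [LinearEquiv.mul_apply, hg'.2, hg.2]⟩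
      inv_mem' := fun {g} hg => ⟨inv_mem hg.1, by
        show g.symm a = a
        conv_lhs => rw [← hg.2, LinearEquiv.symm_apply_apply]⟩ }
  have hmaps : ∀ g : C, ∀ x, x ∈ W ↔ (g : V ≃ₗ[F] V) x ∈ W := fun g x => by
    show x ∈ LinearMap.ker _ ↔ _ ∈ LinearMap.ker _
    rw [Spinor.mem_ker_polar, Spinor.mem_ker_polar]
    conv_rhs => rw [← g.2.2, polar_of_mem (hiso g.2.1)]
  let f : C →* (W ≃ₗ[F] W) :=
    { toFun := fun g => LinearEquiv.ofSubmodules (g : V ≃ₗ[F] V) W W (le_antisymm
        (by rintro _ ⟨x, hx, rfl⟩; exact (hmaps g x).1 hx)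
        (fun x hx => ⟨(g : V ≃ₗ[F] V).symm x,
          (hmaps g _).2 (by rw [LinearEquiv.apply_symm_apply]; exact hx), LinearEquiv.apply_symm_apply _ x⟩))
      map_one' := LinearEquiv.ext fun x => Subtype.ext rfl
      map_mul' := fun g g' => LinearEquiv.ext fun x => Subtype.ext rfl }
  have hfa : ∀ (g : C) (x : W), ((f g x : W) : V) = (g : V ≃ₗ[F] V) x := fun g x => rfl
  have hdec : ∀ y, y - (QuadraticMap.polar Q y a / (2 * Q a)) • a ∈ W := fun y => by
    refine Spinor.mem_ker_polar.2 ?_
    rw [QuadraticMap.polar_sub_left, QuadraticMap.polar_smul_left, polar_self', smul_eq_mul]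
    field_simp
    ring
  let QW : QuadraticForm F W := Q.comp W.subtype
  have hQWp : ∀ x y : W, QuadraticMap.polar QW x y = QuadraticMap.polar Q (x : V) (y : V) := fun x y => by
    simp only [QuadraticMap.polar]; rfl
  have hQW : (QuadraticMap.polarBilin QW).Nondegenerate := by
    have key : ∀ x : W, (∀ y : W, QuadraticMap.polar Q (x : V) (y : V) = 0) → x = 0 := fun x hx => by
      refine Subtype.ext (hQ.1 _ fun y => ?_)
      rw [QuadraticMap.polarBilin_apply_apply,
        ← sub_add_cancel y ((QuadraticMap.polar Q y a / (2 * Q a)) • a), QuadraticMap.polar_add_right,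
        QuadraticMap.polar_smul_right, Spinor.mem_ker_polar.1 x.2, smul_zero, add_zero]
      exact hx ⟨_, hdec y⟩
    exact ⟨fun x hx => key x fun y => by
        have := hx y
        rwa [QuadraticMap.polarBilin_apply_apply, hQWp] at this,
      fun x hx => key x fun y => by
        have := hx y
        rw [QuadraticMap.polarBilin_apply_apply, hQWp, QuadraticMap.polar_comm] at this
        exact this⟩
  have hWd : Module.finrank F W + 1 = n := by
    have hnle : ¬ (⊤ : Submodule F V) ≤ W := fun hle => by
      have := Spinor.mem_ker_polar.1 (hle (Submodule.mem_top (x := a)))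
      rw [polar_self'] at this
      exact mul_ne_zero h2 ha this
    have := Spinor.finrank_inf_ker hnle
    rwa [top_inf_eq, finrank_top, hV] at this
  have hN' := ih (Module.finrank F W) (by omega) hQW rfl (by omega) f.range
    (by rintro _ ⟨g, rfl⟩ x; exact hiso g.2.1 x)
    (hodd.of_dvd_nat ((Subgroup.card_range_dvd f).trans (Subgroup.card_dvd_of_le fun g hg => hg.1)))
    (by
      rintro v hv _ ⟨g, rfl⟩
      have hv' : Q (v : V) ≠ 0 := hv
      have hfa' : refl Q (v : V) hv' a = a := refl_fix Q hv' (by
        rw [QuadraticMap.polar_comm]; exact Spinor.mem_ker_polar.1 v.2)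
      refine ⟨⟨refl Q (v : V) hv' * g * refl Q (v : V) hv', hnorm _ hv' _ g.2.1, ?_⟩,
        LinearEquiv.ext fun x => Subtype.ext ?_⟩
      · show refl Q (v : V) hv' ((g : V ≃ₗ[F] V) (refl Q (v : V) hv' a)) = a
        rw [hfa', g.2.2, hfa']
      · rw [hfa]
        simp only [LinearEquiv.mul_apply, refl_apply, Submodule.coe_sub, Submodule.coe_smul, hfa, hQWp]
        rfl)
  have h1 := (Subgroup.eq_bot_iff_forall _).1 hN' _ ⟨⟨h, hh, hha⟩, rfl⟩
  refine LinearEquiv.ext fun y => ?_
  have e := congrArg Subtype.val (LinearEquiv.congr_fun h1 ⟨_, hdec y⟩)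
  rw [hfa] at e
  have e' : h (y - (QuadraticMap.polar Q y a / (2 * Q a)) • a) = y - (QuadraticMap.polar Q y a / (2 * Q a)) • a := e
  rw [map_sub, map_smul, hha, sub_left_inj] at e'
  exact e'

end Cfsg.Agent.OddCoreForms
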